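import Groth.Agent.Etalg.PairHens2
import Mathlib.RingTheory.FinitePresentation

/-!
# Etale neighbourhoods of pairs and the henselization

Every algebra map from a finitely presented algebra to a henselization of a pair `(A, I)` factors
through an etale neighbourhood of `(A, I)`.
-/

set_option autoImplicit false

universe u

open TensorProduct

namespace K23.EtNbhd

open Groth.Agent.Etalg.PtEt Groth.Agent.Etalg.PtEtSystem Groth.Agent.Etalg.PtEtHens
  Groth.Agent.Etalg.PairHens Groth.Agent.Etalg.PairHens2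

section General

variable {A K : Type u} [CommRing A] [CommRing K] [Algebra A K]

/-- an element of the etale algebra of an index which dies in `Hens` dies in a further index. -/
theorem exists_map_eq_zero (i : Idx A K) (z : i.R) (hz : ofR i z = 0) :
    ∃ (k : Idx A K) (g : i.R →ₐ[A] k.R), (∀ x, k.σ (g x) = i.σ x) ∧ g z = 0 := by
  rw [ofR_apply] at hz
  obtain ⟨j, hij, hj⟩ := Hens.of_eq_zero _ hz
  obtain ⟨k, g, h, hg, hh⟩ := exists_ofR_pair i j
  -- in `k.B` the image of `g z` vanishes
  have hik := Idx.le_of_hom g hg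
  have hjk := Idx.le_of_hom h hh
  have h1 : algebraMap k.R k.B (g z) = 0 := by
    have h2 : (Idx.tr i k hik).comp (IsScalarTower.toAlgHom A i.R i.B) =
        (IsScalarTower.toAlgHom A k.R k.B).comp g := by
      refine hom_unique k.τ k.isUnit_of_τ _ _ fun b => ?_
      change k.τ (Idx.tr i k hik (algebraMap i.R i.B b)) = k.τ (algebraMap k.R k.B (g b))
      rw [Idx.τ_tr, Idx.τ_algebraMap, Idx.τ_algebraMap, hg]
    have h3 : Idx.tr i k hik (algebraMap i.R i.B z) = algebraMap k.R k.B (g z) :=
      congrArg (fun f : i.R →ₐ[A] k.B => f z) h2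
    rw [← h3, ← DirectedSystem.map_map (f := fun i j h => Idx.tr (A := A) (K := K) i j h) hij hjk, hj,
      map_zero]
  obtain ⟨s, hs⟩ := (IsLocalization.map_eq_zero_iff (unitSub k.σ) k.B (g z)).mp h1
  have hsu : IsUnit (k.σ (s : k.R)) := s.2
  have : Algebra.Etale A (Localization.Away (s : k.R)) :=
    Algebra.Etale.comp A k.R (Localization.Away (s : k.R))
  obtain ⟨l, e, he⟩ := Idx.exists_equiv (Localization.Away (s : k.R)) _ (good_away k s hsu)
  refine ⟨l, (e.symm.toAlgHom.comp (IsScalarTower.toAlgHom A k.R (Localization.Away (s : k.R)))).comp g,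
    fun x => ?_, ?_⟩
  · rw [← he]
    change (IsLocalization.lift _ (e (e.symm (algebraMap k.R (Localization.Away (s : k.R)) (g x))))) = _
    rw [AlgEquiv.apply_symm_apply, IsLocalization.lift_eq]
    exact hg x
  · change e.symm (algebraMap k.R (Localization.Away (s : k.R)) (g z)) = 0
    rw [(IsLocalization.map_eq_zero_iff (Submonoid.powers (s : k.R)) _ (g z)).mpr
      ⟨⟨s, Submonoid.mem_powers _⟩, hs⟩, map_zero]

theorem exists_map_eq_zero_finset (i : Idx A K) (s : Finset i.R) (hs : ∀ z ∈ s, ofR i z = 0) :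
    ∃ (k : Idx A K) (g : i.R →ₐ[A] k.R), (∀ x, k.σ (g x) = i.σ x) ∧ ∀ z ∈ s, g z = 0 := by
  classical
  induction s using Finset.induction_on with
  | empty => exact ⟨i, AlgHom.id A _, fun _ => rfl, by simp⟩
  | insert a s ha ih =>
    obtain ⟨k, g, hg, hgs⟩ := ih fun z hz => hs z (Finset.mem_insert_of_mem hz)
    obtain ⟨l, h, hh, hha⟩ := exists_map_eq_zero k (g a) (by
      rw [ofR_comp g hg]
      exact hs a (Finset.mem_insert_self _ _))
    refine ⟨l, h.comp g, fun x => by rw [AlgHom.comp_apply, hh, hg], fun z hz => ?_⟩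
    rw [Finset.mem_insert] at hz
    rcases hz with rfl | hz
    · exact hha
    · rw [AlgHom.comp_apply, hgs z hz, map_zero]

/-- finitely presented algebras mapping to `Hens` factor through an index. -/
theorem exists_factor_idx (D : Type u) [CommRing D] [Algebra A D] [Algebra.FinitePresentation A D]
    (h : D →ₐ[A] Hens A K) : ∃ (k : Idx A K) (ψ : D →ₐ[A] k.R), ∀ x, ofR k (ψ x) = h x := by
  classical
  obtain ⟨n, f, hf, hker⟩ := Algebra.FinitePresentation.out (R := A) (A := D)
  obtain ⟨i, hi⟩ := exists_ofR_finset (Finset.univ.image fun j => h (f (MvPolynomial.X j)))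
  choose y hy using fun j => hi (h (f (MvPolynomial.X j)))
    (Finset.mem_image_of_mem _ (Finset.mem_univ j))
  let φ : MvPolynomial (Fin n) A →ₐ[A] i.R := MvPolynomial.aeval y
  have hφ : (ofR i).comp φ = h.comp f := by
    apply MvPolynomial.algHom_ext
    intro j
    rw [AlgHom.comp_apply, AlgHom.comp_apply]
    simp only [φ, MvPolynomial.aeval_X]
    exact hy j
  obtain ⟨s, hs⟩ := hker
  obtain ⟨k, g, hg, hgs⟩ := exists_map_eq_zero_finset i (s.image φ) (by
    intro z hz
    obtain ⟨p, hp, rfl⟩ := Finset.mem_image.mp hz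
    have h1 : ofR i (φ p) = h (f p) := congrArg (fun F : MvPolynomial (Fin n) A →ₐ[A] Hens A K => F p) hφ
    have h2 : p ∈ RingHom.ker f.toRingHom := by
      rw [← hs]
      exact Ideal.subset_span hp
    rw [h1]
    have h3 : f p = 0 := h2
    rw [h3, map_zero])
  have hle : ∀ p, f p = 0 → (g.comp φ) p = 0 := by
    intro p hp
    have h1 : RingHom.ker f.toRingHom ≤ RingHom.ker (g.comp φ).toRingHom := by
      rw [← hs, Submodule.span_le]
      intro q hq
      exact hgs _ (Finset.mem_image_of_mem _ hq)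
    exact h1 (show p ∈ RingHom.ker f.toRingHom from hp)
  let ψ : D →ₐ[A] k.R := AlgHom.liftOfSurjective f hf (g.comp φ) hle
  refine ⟨k, ψ, fun x => ?_⟩
  obtain ⟨p, rfl⟩ := hf x
  have h1 : ψ (f p) = g (φ p) := AlgHom.liftOfSurjective_apply f hf (g.comp φ) hle p
  rw [h1, ofR_comp g hg]
  exact congrArg (fun F : MvPolynomial (Fin n) A →ₐ[A] Hens A K => F p) hφ

end General

section Pair

variable {A : Type u} [CommRing A] {I : Ideal A}

/-- `A'` is an etale neighbourhood of `(A, I)`. -/
def IsNbhd (I : Ideal A) (A' : Type u) [CommRing A'] [Algebra A A'] : Prop :=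
  Algebra.Etale A A' ∧ (∀ c' : A', ∃ c : A, algebraMap A A' c - c' ∈ I.map (algebraMap A A')) ∧
    ∀ c : A, algebraMap A A' c ∈ I.map (algebraMap A A') → c ∈ I

/-- **Factorization through etale neighbourhoods.** -/
theorem exists_factor {B : Type u} [CommRing B] [Algebra A B]
    (hB : Hens2.IsPairHenselization A I B) (D : Type u) [CommRing D] [Algebra A D]
    [Algebra.FinitePresentation A D] (h : D →ₐ[A] B) :
    ∃ (A' : Type u) (_ : CommRing A') (_ : Algebra A A'), IsNbhd I A' ∧
      ∃ (ψ : D →ₐ[A] A') (g : A' →ₐ[A] B), ∀ x, g (ψ x) = h x := by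
  obtain ⟨E⟩ := exists_equiv (isPairHenselization_Hens A I) hB
  obtain ⟨k, ψ, hψ⟩ := exists_factor_idx D (E.symm.toAlgHom.comp h)
  obtain ⟨e, he, hmul⟩ := exists_mul_mem k.σ
  have hu : IsUnit (ofR k e) := by
    apply Hens.isUnit_of_τ
    rw [τ_ofR, he]
    exact isUnit_one
  let A' := Localization.Away e
  have hσe : ∀ y : Submonoid.powers e, IsUnit (k.σ y) := fun y => by
    obtain ⟨_, n, rfl⟩ := y
    change IsUnit (k.σ (e ^ n))
    rw [map_pow, he, one_pow]
    exact isUnit_one
  have hge : ∀ y : Submonoid.powers e, IsUnit (ofR k y) := fun y => by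
    obtain ⟨_, n, rfl⟩ := y
    change IsUnit (ofR k (e ^ n))
    rw [map_pow]
    exact hu.pow n
  let σ' : A' →ₐ[A] A ⧸ I := IsLocalization.liftAlgHom (M := Submonoid.powers e) (f := k.σ) hσe
  let g : A' →ₐ[A] Hens A (A ⧸ I) :=
    IsLocalization.liftAlgHom (M := Submonoid.powers e) (f := ofR k) hge
  have hσ' : ∀ r, σ' (algebraMap k.R A' r) = k.σ r := fun r => by
    change IsLocalization.lift _ (algebraMap k.R A' r) = _
    rw [IsLocalization.lift_eq]; rfl
  have hg : ∀ r, g (algebraMap k.R A' r) = ofR k r := fun r => by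
    change IsLocalization.lift _ (algebraMap k.R A' r) = _
    rw [IsLocalization.lift_eq]; rfl
  have het : Algebra.Etale A A' := Algebra.Etale.comp A k.R A'
  -- the kernel of `σ'`
  have hker : ∀ c' : A', σ' c' = 0 → c' ∈ I.map (algebraMap A A') := by
    intro c' hc'
    obtain ⟨r, s, rfl⟩ := IsLocalization.exists_mk'_eq (Submonoid.powers e) c'
    have h1 : k.σ r = 0 := by
      rw [← hσ', ← IsLocalization.mk'_spec A' r s, map_mul, hc', zero_mul]
    have h2 := hmul r h1
    have h3 : algebraMap k.R A' (r * e) ∈ I.map (algebraMap A A') := by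
      have := Ideal.mem_map_of_mem (algebraMap k.R A') h2
      rwa [Ideal.map_map, ← IsScalarTower.algebraMap_eq] at this
    have h4 : IsUnit (algebraMap k.R A' ((s : k.R) * e)) := by
      rw [map_mul]
      exact (IsLocalization.map_units A' s).mul
        (IsLocalization.map_units A' (⟨e, Submonoid.mem_powers e⟩ : Submonoid.powers e))
    have h5 : IsLocalization.mk' A' r s * algebraMap k.R A' ((s : k.R) * e) =
        algebraMap k.R A' (r * e) := by
      rw [map_mul, ← mul_assoc, IsLocalization.mk'_spec, ← map_mul]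
    exact (Ideal.mul_unit_mem_iff_mem _ h4).1 (h5 ▸ h3)
  refine ⟨A', inferInstance, inferInstance, ⟨het, fun c' => ?_, fun c hc => ?_⟩,
    (IsScalarTower.toAlgHom A k.R A').comp ψ, E.toAlgHom.comp g, fun x => ?_⟩
  · obtain ⟨c, hc⟩ := Ideal.Quotient.mk_surjective (σ' c')
    refine ⟨c, hker _ ?_⟩
    rw [map_sub, AlgHom.commutes, sub_eq_zero, ← hc]
    rfl
  · have h1 : I.map (algebraMap A A') ≤ RingHom.ker σ'.toRingHom := by
      rw [Ideal.map_le_iff_le_comap]
      intro a ha
      change σ' (algebraMap A A' a) = 0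
      rw [AlgHom.commutes]
      exact Ideal.Quotient.eq_zero_iff_mem.mpr ha
    have h2 : σ' (algebraMap A A' c) = 0 := h1 hc
    rw [AlgHom.commutes] at h2
    exact Ideal.Quotient.eq_zero_iff_mem.mp h2
  · change E (g (algebraMap k.R A' (ψ x))) = h x
    rw [hg, hψ]
    exact E.apply_symm_apply (h x)

/-- finitely many elements of the henselization come from an etale neighbourhood. -/
theorem exists_nbhd {B : Type u} [CommRing B] [Algebra A B]
    (hB : Hens2.IsPairHenselization A I B) {n : ℕ} (b : Fin n → B) :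
    ∃ (A' : Type u) (_ : CommRing A') (_ : Algebra A A'), IsNbhd I A' ∧
      ∃ (g : A' →ₐ[A] B) (b' : Fin n → A'), ∀ i, g (b' i) = b i := by
  obtain ⟨A', i1, i2, hA', ψ, g, hg⟩ := exists_factor hB (MvPolynomial (Fin n) A)
    (MvPolynomial.aeval b)
  refine ⟨A', i1, i2, hA', g, fun i => ψ (MvPolynomial.X i), fun i => ?_⟩
  rw [hg, MvPolynomial.aeval_X]

theorem IsNbhd.quot_bijective {A' : Type u} [CommRing A'] [Algebra A A'] (h : IsNbhd I A') :
    Function.Bijective
      (Ideal.quotientMap (I.map (algebraMap A A')) (algebraMap A A') Ideal.le_comap_map) := by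
  constructor
  · rw [injective_iff_map_eq_zero]
    intro x hx
    obtain ⟨a, rfl⟩ := Ideal.Quotient.mk_surjective x
    rw [Ideal.quotientMap_mk, Ideal.Quotient.eq_zero_iff_mem] at hx
    exact Ideal.Quotient.eq_zero_iff_mem.mpr (h.2.2 a hx)
  · intro y
    obtain ⟨x, rfl⟩ := Ideal.Quotient.mk_surjective y
    obtain ⟨c, hc⟩ := h.2.1 x
    refine ⟨Ideal.Quotient.mk I c, ?_⟩
    rw [Ideal.quotientMap_mk, Ideal.Quotient.eq]
    exact hc

theorem IsNbhd.quot_pow_bijective {A' : Type u} [CommRing A'] [Algebra A A'] (h : IsNbhd I A')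
    (n : ℕ) : Function.Bijective
      (Ideal.quotientMap ((I ^ n).map (algebraMap A A')) (algebraMap A A') Ideal.le_comap_map) := by
  have := h.1
  exact Groth.Agent.Etalg.PairHens2.quot_pow_bijective h.quot_bijective n

theorem IsNbhd.pow_surj {A' : Type u} [CommRing A'] [Algebra A A'] (h : IsNbhd I A')
    (n : ℕ) (c' : A') : ∃ c : A, algebraMap A A' c - c' ∈ (I ^ n).map (algebraMap A A') := by
  obtain ⟨x, hx⟩ := (h.quot_pow_bijective n).2 (Ideal.Quotient.mk _ c')
  obtain ⟨c, rfl⟩ := Ideal.Quotient.mk_surjective x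
  rw [Ideal.quotientMap_mk, Ideal.Quotient.eq] at hx
  exact ⟨c, hx⟩

theorem IsNbhd.pow_inj {A' : Type u} [CommRing A'] [Algebra A A'] (h : IsNbhd I A')
    (n : ℕ) (c : A) (hc : algebraMap A A' c ∈ (I ^ n).map (algebraMap A A')) : c ∈ I ^ n := by
  have h1 : Ideal.quotientMap ((I ^ n).map (algebraMap A A')) (algebraMap A A') Ideal.le_comap_map
      (Ideal.Quotient.mk (I ^ n) c) = 0 := by
    rw [Ideal.quotientMap_mk]
    exact Ideal.Quotient.eq_zero_iff_mem.mpr hc
  have h2 := (h.quot_pow_bijective n).1 (h1.trans (map_zero _).symm)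
  exact Ideal.Quotient.eq_zero_iff_mem.mp h2

end Pair

end K23.EtNbhd
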