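import Groth.Agent.AdicRing.K23.EtNbhd
import Groth.Agent.S1958
import Mathlib.RingTheory.AdicCompletion.Algebra

/-!
# Etale neighbourhoods of pairs, comparison with the henselization and the completion
-/

set_option autoImplicit false

universe u

namespace K23.EtNbhd

variable {A : Type u} [CommRing A] {I : Ideal A}

/-- surjectivity of `A → B/I^m B` for a henselization `B`. -/
theorem hens_surj {B : Type u} [CommRing B] [Algebra A B] (hB : Hens2.IsPairHenselization A I B)
    (m : ℕ) (y : B) : ∃ c : A, y - algebraMap A B c ∈ (I ^ m).map (algebraMap A B) := by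
  obtain ⟨x, hx⟩ := ((Groth.Agent.S1958.result A I B hB).2 m).2 (Ideal.Quotient.mk _ y)
  obtain ⟨c, rfl⟩ := Ideal.Quotient.mk_surjective x
  rw [Ideal.quotientMap_mk, eq_comm, Ideal.Quotient.eq] at hx
  exact ⟨c, hx⟩

/-- injectivity of `A/I^m → B/I^m B` for a henselization `B`. -/
theorem hens_inj {B : Type u} [CommRing B] [Algebra A B] (hB : Hens2.IsPairHenselization A I B)
    (m : ℕ) (c : A) (hc : algebraMap A B c ∈ (I ^ m).map (algebraMap A B)) : c ∈ I ^ m := by
  have h1 : Ideal.quotientMap ((I ^ m).map (algebraMap A B)) (algebraMap A B) Ideal.le_comap_map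
      (Ideal.Quotient.mk (I ^ m) c) = 0 := by
    rw [Ideal.quotientMap_mk]
    exact Ideal.Quotient.eq_zero_iff_mem.mpr hc
  have h2 := ((Groth.Agent.S1958.result A I B hB).2 m).1 (h1.trans (map_zero _).symm)
  exact Ideal.Quotient.eq_zero_iff_mem.mp h2

theorem map_mem_of_mem {A' B : Type u} [CommRing A'] [Algebra A A'] [CommRing B] [Algebra A B]
    (g : A' →ₐ[A] B) (J : Ideal A) (r : A') (hr : r ∈ J.map (algebraMap A A')) :
    g r ∈ J.map (algebraMap A B) := by
  have := Ideal.mem_map_of_mem g.toRingHom hr
  rw [Ideal.map_map] at this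
  have h3 : g.toRingHom.comp (algebraMap A A') = algebraMap A B := g.comp_algebraMap
  rwa [h3] at this

/-- an etale neighbourhood and the henselization have the same quotients modulo `I^m`. -/
theorem IsNbhd.mem_of_map_mem {A' B : Type u} [CommRing A'] [Algebra A A'] [CommRing B] [Algebra A B]
    (h : IsNbhd I A') (hB : Hens2.IsPairHenselization A I B) (g : A' →ₐ[A] B) (m : ℕ) (r : A')
    (hr : g r ∈ (I ^ m).map (algebraMap A B)) : r ∈ (I ^ m).map (algebraMap A A') := by
  obtain ⟨c, hc⟩ := h.pow_surj m r
  have h1 : algebraMap A B c ∈ (I ^ m).map (algebraMap A B) := by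
    have h2 := map_mem_of_mem g _ _ hc
    rw [map_sub, AlgHom.commutes] at h2
    have := add_mem h2 hr
    rwa [sub_add_cancel] at this
  have h3 := Ideal.mem_map_of_mem (algebraMap A A') (hens_inj hB m c h1)
  have := sub_mem h3 hc
  rwa [sub_sub_cancel] at this

/-- comparison of the two evaluation maps of the completion. -/
theorem eval_eq_mk_iff (n : ℕ) (x : AdicCompletion I A) (c : A) :
    AdicCompletion.eval I A n x = Submodule.Quotient.mk c ↔
      AdicCompletion.evalₐ I n x = Ideal.Quotient.mk (I ^ n) c := by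
  induction x using AdicCompletion.induction_on with
  | _ r =>
    rw [AdicCompletion.evalₐ_mk, Ideal.Quotient.eq]
    change (Submodule.Quotient.mk (r.val n) : A ⧸ (I ^ n • ⊤ : Submodule A A)) =
      Submodule.Quotient.mk c ↔ _
    rw [Submodule.Quotient.eq, smul_eq_mul, Ideal.mul_top]

end K23.EtNbhd
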