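import Groth.Agent.Ega1.LimitSystem
import Mathlib.RingTheory.AdicCompletion.RingHom
import Mathlib.Algebra.Module.Projective

/-!
# Inverse limits of adic systems of modules over a complete ring (no finiteness of the ideal)
-/

set_option autoImplicit false
universe u v

namespace K23.LimComplete

open Groth.Agent.Ega1.LimitSystem

variable {A : Type u} [CommRing A] {I : Ideal A}

/-- A Cauchy series in `A^r` with terms in `I^n A^r` has a limit; the tails are controlled. -/
theorem exists_limit_fin [IsPrecomplete I A] {r : ℕ} (e : ℕ → Fin r → A)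
    (he : ∀ n i, e n i ∈ I ^ n) :
    ∃ a : Fin r → A, ∀ n i, a i - ∑ k ∈ Finset.range n, e k i ∈ I ^ n := by
  have h : ∀ i, ∃ L : A, ∀ n, (∑ k ∈ Finset.range n, e k i) ≡ L
      [SMOD (I ^ n • ⊤ : Submodule A A)] := by
    intro i
    refine IsPrecomplete.prec' (fun n => ∑ k ∈ Finset.range n, e k i) ?_
    intro n n' hnn'
    rw [SModEq.comm, SModEq.sub_mem, smul_eq_mul, Ideal.mul_top,
      ← Finset.sum_range_add_sum_Ico _ hnn', add_sub_cancel_left]
    refine Ideal.sum_mem _ fun j hj => ?_
    rw [Finset.mem_Ico] at hj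
    exact Ideal.pow_le_pow_right (by omega) (he j i)
  choose L hL using h
  refine ⟨L, fun n i => ?_⟩
  have h1 := (hL i n).symm
  rwa [SModEq.sub_mem, smul_eq_mul, Ideal.mul_top] at h1

variable {M : ℕ → Type v} [∀ n, AddCommGroup (M n)] [∀ n, Module A (M n)]
  {f : ∀ n, M (n + 1) →ₗ[A] M n}
  {L : Type v} [AddCommGroup L] [Module A L] {π : ∀ n, L →ₗ[A] M n}

theorem mem_smul_top_of_sum {r : ℕ} {N : Type v} [AddCommGroup N] [Module A N] (x : Fin r → N)
    (n : ℕ) (c : Fin r → A) (hc : ∀ i, c i ∈ I ^ n) :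
    ∑ i, c i • x i ∈ I ^ n • (⊤ : Submodule A N) :=
  Submodule.sum_mem _ fun i _ => Submodule.smul_mem_smul (hc i) Submodule.mem_top

theorem exists_sum_of_mem_smul_top {r : ℕ} {N : Type v} [AddCommGroup N] [Module A N]
    (x : Fin r → N) (hx : Submodule.span A (Set.range x) = ⊤) (n : ℕ) (y : N)
    (hy : y ∈ I ^ n • (⊤ : Submodule A N)) :
    ∃ c : Fin r → A, (∀ i, c i ∈ I ^ n) ∧ y = ∑ i, c i • x i := by
  rw [← hx, Submodule.mem_ideal_smul_span_iff_exists_sum] at hy
  obtain ⟨a, ha, hsum⟩ := hy
  refine ⟨fun j => a j, ha, ?_⟩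
  rw [← hsum, Finsupp.sum_fintype _ _ (fun i => by simp)]

/-- nilpotent Nakayama for the levels. -/
theorem span_top_level (hf : ∀ n, Function.Surjective (f n))
    (hker : ∀ n, LinearMap.ker (f n) = I ^ (n + 1) • (⊤ : Submodule A (M (n + 1))))
    (hπ : ∀ n, f n ∘ₗ π (n + 1) = π n)
    {r : ℕ} (x : Fin r → L) (h0 : Submodule.span A (Set.range (fun i => π 0 (x i))) = ⊤) (n : ℕ) :
    Submodule.span A (Set.range (fun i => π n (x i))) = ⊤ := by
  induction n with
  | zero => exact h0
  | succ n ih =>
    have hmap : Submodule.map (f n) (Submodule.span A (Set.range (fun i => π (n + 1) (x i)))) = ⊤ := by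
      rw [Submodule.map_span, ← ih]
      congr 1
      ext y
      simp only [Set.mem_image, Set.mem_range]
      constructor
      · rintro ⟨_, ⟨i, rfl⟩, rfl⟩
        exact ⟨i, (LinearMap.congr_fun (hπ n) (x i)).symm⟩
      · rintro ⟨i, rfl⟩
        exact ⟨_, ⟨i, rfl⟩, LinearMap.congr_fun (hπ n) (x i)⟩
    set N := Submodule.span A (Set.range (fun i => π (n + 1) (x i))) with hN
    have hle : (⊤ : Submodule A (M (n + 1))) ≤ N ⊔ I ^ (n + 1) • ⊤ := by
      intro y _
      have : f n y ∈ Submodule.map (f n) N := by rw [hmap]; trivial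
      obtain ⟨z, hz, hzy⟩ := this
      have h1 : y - z ∈ I ^ (n + 1) • (⊤ : Submodule A (M (n + 1))) := by
        rw [← hker, LinearMap.mem_ker, map_sub, hzy, sub_self]
      have : y = z + (y - z) := by abel
      rw [this]
      exact Submodule.add_mem_sup hz h1
    have hb : I ^ (n + 1 + 1) • (⊤ : Submodule A (M (n + 1))) = ⊥ := smul_top_eq_bot hf hker (n + 1)
    have h2 : I ^ (n + 1) • (⊤ : Submodule A (M (n + 1))) ≤ N := by
      calc I ^ (n + 1) • (⊤ : Submodule A (M (n + 1)))
          ≤ I ^ (n + 1) • (N ⊔ I ^ (n + 1) • ⊤) := Submodule.smul_mono le_rfl hle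
        _ = I ^ (n + 1) • N ⊔ I ^ (n + 1) • (I ^ (n + 1) • ⊤) := Submodule.smul_sup _ _ _
        _ ≤ N := by
          refine sup_le Submodule.smul_le_right ?_
          rw [smul_smul, ← pow_add]
          have : I ^ (n + 1 + (n + 1)) ≤ I ^ (n + 1 + 1) := Ideal.pow_le_pow_right (by omega)
          refine (Submodule.smul_mono this le_rfl).trans ?_
          rw [hb]
          exact bot_le
    exact eq_top_iff.mpr (hle.trans (sup_le le_rfl h2))

/-- the approximation lemma: an element killed by `π_n` is a combination of the `x_i` with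
coefficients in `I^{n+1}`; and any element is a combination. -/
theorem exists_coeff [IsPrecomplete I A] (hf : ∀ n, Function.Surjective (f n))
    (hker : ∀ n, LinearMap.ker (f n) = I ^ (n + 1) • (⊤ : Submodule A (M (n + 1))))
    (hπ : ∀ n, f n ∘ₗ π (n + 1) = π n)
    (hinj : ∀ x : L, (∀ n, π n x = 0) → x = 0)
    {r : ℕ} (x : Fin r → L) (h0 : Submodule.span A (Set.range (fun i => π 0 (x i))) = ⊤)
    (m : ℕ) (y : L) (hy : ∀ k, k < m → π k y = 0) :
    ∃ c : Fin r → A, (∀ i, c i ∈ I ^ m) ∧ y = ∑ i, c i • x i := by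
  classical
  have hspan := span_top_level (L := L) hf hker hπ x h0
  have hbot : ∀ n, I ^ (n + 1) • (⊤ : Submodule A (M n)) = ⊥ := smul_top_eq_bot hf hker
  -- one step
  have hstep : ∀ (n : ℕ) (z : L), (∀ k, k < n → π k z = 0) →
      ∃ c : Fin r → A, (∀ i, c i ∈ I ^ n) ∧ ∀ k, k < n + 1 → π k (z - ∑ i, c i • x i) = 0 := by
    intro n z hz
    have h1 : π n z ∈ I ^ n • (⊤ : Submodule A (M n)) := by
      cases n with
      | zero => simp
      | succ n =>
        rw [← hker, LinearMap.mem_ker]
        have := LinearMap.congr_fun (hπ n) z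
        rw [LinearMap.comp_apply] at this
        rw [this]
        exact hz n (Nat.lt_succ_self n)
    obtain ⟨c, hc, hcy⟩ := exists_sum_of_mem_smul_top (fun i => π n (x i)) (hspan n) n _ h1
    refine ⟨c, hc, ?_⟩
    have h2 : π n (z - ∑ i, c i • x i) = 0 := by
      rw [map_sub, hcy, map_sum]
      simp
    intro k hk
    have := proj_of_le hπ (by omega : k ≤ n) (LinearMap.mem_ker.mpr h2)
    exact LinearMap.mem_ker.mp this
  choose! c hc hc' using hstep
  -- the sequence of remainders, starting at level `m`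
  let R : ℕ → L := fun k => Nat.rec (motive := fun _ => L) y
    (fun k a => a - ∑ i, c (m + k) a i • x i) k
  have hR : ∀ k j, j < m + k → π j (R k) = 0 := by
    intro k
    induction k with
    | zero => intro j hj; exact hy j (by omega)
    | succ k ih => intro j hj; exact hc' (m + k) (R k) ih j (by omega)
  have hRS : ∀ k, R (k + 1) = R k - ∑ i, c (m + k) (R k) i • x i := fun k => rfl
  let e : ℕ → Fin r → A := fun k i => c (m + k) (R k) i
  have he : ∀ k i, e k i ∈ I ^ (m + k) := fun k i => hc (m + k) (R k) (hR k) i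
  have hsum : ∀ k, y = R k + ∑ i, (∑ j ∈ Finset.range k, e j i) • x i := by
    intro k
    induction k with
    | zero => simp [R]
    | succ k ih =>
      rw [hRS]
      have : ∑ i, (∑ j ∈ Finset.range (k + 1), e j i) • x i =
          ∑ i, (∑ j ∈ Finset.range k, e j i) • x i + ∑ i, e k i • x i := by
        simp only [Finset.sum_range_succ _ k, add_smul, Finset.sum_add_distrib]
      rw [this]
      nth_rewrite 1 [ih]
      simp only [e]
      abel
  obtain ⟨a, ha⟩ := exists_limit_fin (I := I) (fun k i => if m ≤ k then e (k - m) i else 0) (by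
    intro n i
    by_cases h : m ≤ n
    · simp only [if_pos h]
      have := he (n - m) i
      rwa [show m + (n - m) = n by omega] at this
    · simp only [if_neg h]
      exact zero_mem _)
  have hshift : ∀ k i, ∑ n ∈ Finset.range (m + k), (if m ≤ n then e (n - m) i else 0) =
      ∑ j ∈ Finset.range k, e j i := by
    intro k i
    rw [Finset.sum_range_add]
    have h1 : ∑ x ∈ Finset.range m, (if m ≤ x then e (x - m) i else 0) = 0 := by
      refine Finset.sum_eq_zero fun x hx => ?_
      rw [Finset.mem_range] at hx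
      rw [if_neg (by omega)]
    rw [h1, zero_add]
    refine Finset.sum_congr rfl fun x _ => ?_
    rw [if_pos (by omega), Nat.add_sub_cancel_left]
  refine ⟨a, fun i => ?_, ?_⟩
  · have := ha m i
    have h0 := hshift 0 i
    rw [add_zero, Finset.range_zero, Finset.sum_empty] at h0
    rw [h0, sub_zero] at this
    exact this
  · rw [← sub_eq_zero]
    apply hinj
    intro n
    have h1 := hsum (n + 1)
    have h2 : y - ∑ i, a i • x i = R (n + 1) -
        ∑ i, (a i - ∑ j ∈ Finset.range (n + 1), e j i) • x i := by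
      simp only [sub_smul, Finset.sum_sub_distrib]
      nth_rewrite 1 [h1]
      abel
    rw [h2, map_sub, hR (n + 1) n (by omega), zero_sub, neg_eq_zero]
    have h3 : ∑ i, (a i - ∑ j ∈ Finset.range (n + 1), e j i) • x i ∈
        I ^ (n + 1) • (⊤ : Submodule A L) := by
      refine mem_smul_top_of_sum x (n + 1) _ fun i => ?_
      have := ha (m + (n + 1)) i
      rw [hshift] at this
      exact Ideal.pow_le_pow_right (by omega) this
    exact LinearMap.mem_ker.mp (smul_top_le_ker hf hker n h3)

theorem main [IsAdicComplete I A] (hf : ∀ n, Function.Surjective (f n))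
    (hker : ∀ n, LinearMap.ker (f n) = I ^ (n + 1) • (⊤ : Submodule A (M (n + 1))))
    (hπ : ∀ n, f n ∘ₗ π (n + 1) = π n)
    (hinj : ∀ x : L, (∀ n, π n x = 0) → x = 0)
    (hlift : ∀ y : (∀ n, M n), (∀ n, f n (y (n + 1)) = y n) → ∃ x : L, ∀ n, π n x = y n)
    (h0 : Module.Finite A (M 0)) :
    Module.Finite A L ∧ IsAdicComplete I L ∧
      ∀ n, Function.Surjective (π n) ∧ LinearMap.ker (π n) = I ^ (n + 1) • (⊤ : Submodule A L) := by
  have hsurj := surjective_proj hf hlift
  obtain ⟨r, s, hs⟩ := Module.Finite.exists_fin (R := A) (M := M 0)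
  choose x hx using fun i => hsurj 0 (s i)
  have h0' : Submodule.span A (Set.range (fun i => π 0 (x i))) = ⊤ := by
    rw [← hs]
    congr 2
    exact funext hx
  have hkerπ : ∀ n, LinearMap.ker (π n) = I ^ (n + 1) • (⊤ : Submodule A L) := by
    intro n
    refine le_antisymm (fun y hy => ?_) (smul_top_le_ker hf hker n)
    obtain ⟨c, hc, rfl⟩ := exists_coeff (I := I) hf hker hπ hinj x h0' (n + 1) y (fun k hk =>
      LinearMap.mem_ker.mp (proj_of_le hπ (by omega : k ≤ n) hy))
    exact mem_smul_top_of_sum x (n + 1) c hc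
  refine ⟨⟨Submodule.fg_iff_exists_fin_generating_family.mpr ⟨r, x, ?_⟩⟩, isAdicComplete hπ hinj hlift hkerπ,
    fun n => ⟨hsurj n, hkerπ n⟩⟩
  rw [eq_top_iff]
  intro y _
  obtain ⟨c, -, rfl⟩ := exists_coeff (I := I) hf hker hπ hinj x h0' 0 y (fun k hk => absurd hk (by omega))
  exact Submodule.sum_mem _ fun i _ => Submodule.smul_mem _ _ (Submodule.subset_span ⟨i, rfl⟩)

end K23.LimComplete
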