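import Groth.Agent.AdicRing.K23.LimComplete
import Mathlib.Algebra.Module.Projective
import Mathlib.RingTheory.Ideal.Quotient.Operations
import Mathlib.LinearAlgebra.Pi

/-!
# Inverse limits of adic systems of finite projective modules over a complete ring
-/

set_option autoImplicit false
universe u v w w'

namespace K23.LimProj

open Groth.Agent.Ega1.LimitSystem K23.LimComplete

variable {A : Type u} [CommRing A] {I : Ideal A}

/-- an element of a complete ring is determined by its classes modulo the `I^{n+1}`. -/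
theorem eq_of_forall_mk_eq [IsAdicComplete I A] : ∀ a b : A, (∀ n, Ideal.Quotient.mk (I ^ (n + 1)) a = Ideal.Quotient.mk (I ^ (n + 1)) b) →
      a = b := by
    intro a b h
    rw [← sub_eq_zero]
    refine IsHausdorff.haus' (I := I) _ fun n => ?_
    rw [SModEq.zero, smul_eq_mul, Ideal.mul_top]
    exact Ideal.pow_le_pow_right (Nat.le_succ n) ((Ideal.Quotient.mk_eq_mk_iff_sub_mem _ _).mp (h n))

/-- limits of sequences with `a_{n+1} - a_n ∈ I^{n+1}`. -/
theorem exists_limit_seq [IsAdicComplete I A] (a : ℕ → A) (hstep : ∀ n, a (n + 1) - a n ∈ I ^ (n + 1)) :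
    ∃ l : A, ∀ n, l - a n ∈ I ^ (n + 1) := by
  have hcau : ∀ (k m : ℕ), a (m + k) - a m ∈ I ^ (m + 1) := by
    intro k m
    induction k with
    | zero => simp
    | succ k ih =>
      have h1 := Ideal.pow_le_pow_right (show m + 1 ≤ m + k + 1 by omega) (hstep (m + k))
      have : a (m + (k + 1)) - a m = (a (m + k + 1) - a (m + k)) + (a (m + k) - a m) := by
        rw [← add_assoc]; ring
      rw [this]
      exact add_mem h1 ih
  obtain ⟨l, hl⟩ := IsPrecomplete.prec' (I := I) a (by
      intro m n hmn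
      obtain ⟨k, rfl⟩ := Nat.exists_eq_add_of_le hmn
      rw [SModEq.comm, SModEq.sub_mem, smul_eq_mul, Ideal.mul_top]
      exact Ideal.pow_le_pow_right (Nat.le_succ m) (hcau k m))
  refine ⟨l, fun n => ?_⟩
  have h1 := hl (n + 1)
  rw [SModEq.comm, SModEq.sub_mem, smul_eq_mul, Ideal.mul_top] at h1
  have : l - a n = (l - a (n + 1)) + (a (n + 1) - a n) := by ring
  rw [this]
  exact add_mem h1 (hstep n)

theorem exists_lim [IsAdicComplete I A] (φ : ∀ n, A ⧸ I ^ (n + 1))
    (hφ : ∀ n, Ideal.Quotient.factor (Ideal.pow_le_pow_right (show n + 1 ≤ n + 1 + 1 by omega)) (φ (n + 1)) =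
      φ n) :
    ∃ a : A, ∀ n, Ideal.Quotient.mk (I ^ (n + 1)) a = φ n := by
  choose a ha using fun n => Ideal.Quotient.mk_surjective (φ n)
  obtain ⟨l, hl⟩ := exists_limit_seq (I := I) a (by
    intro n
    rw [← Ideal.Quotient.mk_eq_mk_iff_sub_mem, ha n, ← hφ n, ← ha (n + 1),
        Ideal.Quotient.factor_mk])
  refine ⟨l, fun n => ?_⟩
  rw [← ha n, Ideal.Quotient.mk_eq_mk_iff_sub_mem]
  exact hl n

/-- A compatible family of functionals `L → A/I^{n+1}` lifts to `L → A`. -/
theorem exists_linear_of_compatible [IsAdicComplete I A] {L : Type v} [AddCommGroup L] [Module A L]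
    (φ : ∀ n, L →ₗ[A] A ⧸ I ^ (n + 1))
    (hφ : ∀ n y, Ideal.Quotient.factor (Ideal.pow_le_pow_right (show n + 1 ≤ n + 1 + 1 by omega)) (φ (n + 1) y) =
      φ n y) :
    ∃ s : L →ₗ[A] A, ∀ n y, Ideal.Quotient.mk (I ^ (n + 1)) (s y) = φ n y := by
  choose s hs using fun y => exists_lim (I := I) (fun n => φ n y) (fun n => hφ n y)
  refine ⟨{ toFun := s, map_add' := fun y z => ?_, map_smul' := fun c y => ?_ }, fun n y => hs y n⟩
  · refine eq_of_forall_mk_eq (I := I) _ _ fun n => ?_
    rw [hs, map_add, map_add, hs, hs]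
  · refine eq_of_forall_mk_eq (I := I) _ _ fun n => ?_
    rw [hs, RingHom.id_apply, smul_eq_mul, map_mul, hs, map_smul, Algebra.smul_def,
      Ideal.Quotient.algebraMap_eq]

/-- the map `(A/J)^m → P` given by elements of a module killed by `J`. -/
noncomputable def comb (J : Ideal A) {P : Type v} [AddCommGroup P] [Module A P]
    (hP : J • (⊤ : Submodule A P) = ⊥) {m : ℕ} (p : Fin m → P) : (Fin m → A ⧸ J) →ₗ[A] P :=
  ∑ i, (Submodule.liftQ J (LinearMap.toSpanSingleton A P (p i)) (by
    intro a ha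
    rw [LinearMap.mem_ker, LinearMap.toSpanSingleton_apply]
    have : a • p i ∈ J • (⊤ : Submodule A P) := Submodule.smul_mem_smul ha Submodule.mem_top
    rw [hP] at this
    exact (Submodule.mem_bot A).mp this)) ∘ₗ LinearMap.proj i

theorem comb_mk (J : Ideal A) {P : Type v} [AddCommGroup P] [Module A P]
    (hP : J • (⊤ : Submodule A P) = ⊥) {m : ℕ} (p : Fin m → P) (c : Fin m → A) :
    comb J hP p (fun i => Ideal.Quotient.mk J (c i)) = ∑ i, c i • p i := by
  simp only [comb, LinearMap.sum_apply, LinearMap.comp_apply, LinearMap.proj_apply]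
  rfl

/-- lifting property for retracts of `(A/J)^m` against modules killed by `J`. -/
theorem exists_lift_of_retract (J : Ideal A) {M : Type v} {P : Type w} {N : Type w'} [AddCommGroup M] [Module A M]
    [AddCommGroup P] [Module A P] [AddCommGroup N] [Module A N]
    (hM : ∃ (m : ℕ) (i : M →ₗ[A] (Fin m → A ⧸ J)) (r : (Fin m → A ⧸ J) →ₗ[A] M), r ∘ₗ i = LinearMap.id)
    (hP : J • (⊤ : Submodule A P) = ⊥) (g : P →ₗ[A] N) (h : M →ₗ[A] N)
    (hgh : ∀ x, h x ∈ LinearMap.range g) : ∃ h' : M →ₗ[A] P, g ∘ₗ h' = h := by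
  classical
  obtain ⟨m, i, r, hri⟩ := hM
  choose p hp using fun j : Fin m => hgh (r (Pi.single j 1))
  refine ⟨comb J hP p ∘ₗ i, ?_⟩
  have key : g ∘ₗ comb J hP p = h ∘ₗ r := by
    apply LinearMap.ext
    intro c
    choose a ha using fun j => Ideal.Quotient.mk_surjective (c j)
    obtain rfl : (fun j => Ideal.Quotient.mk J (a j)) = c := funext ha
    have h1 : (fun j => Ideal.Quotient.mk J (a j)) =
        ∑ j, a j • (Pi.single j (1 : A ⧸ J) : Fin m → A ⧸ J) := by
      funext k
      simp only [Finset.sum_apply, Pi.smul_apply, Pi.single_apply]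
      rw [Finset.sum_eq_single k]
      · simp [Algebra.smul_def]
      · intro b _ hb
        rw [if_neg (Ne.symm hb), smul_zero]
      · intro hk
        exact absurd (Finset.mem_univ k) hk
    rw [LinearMap.comp_apply, comb_mk, map_sum, LinearMap.comp_apply, h1, map_sum, map_sum]
    refine Finset.sum_congr rfl fun j _ => ?_
    rw [map_smul, map_smul, map_smul, hp]
  rw [← LinearMap.comp_assoc, key, LinearMap.comp_assoc, hri, LinearMap.comp_id]

variable {M : ℕ → Type v} [∀ n, AddCommGroup (M n)] [∀ n, Module A (M n)]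
  {f : ∀ n, M (n + 1) →ₗ[A] M n}
  {L : Type v} [AddCommGroup L] [Module A L] {π : ∀ n, L →ₗ[A] M n}

/-- one step in the construction of compatible sections. -/
theorem section_step (hf : ∀ n, Function.Surjective (f n))
    (hker : ∀ n, LinearMap.ker (f n) = I ^ (n + 1) • (⊤ : Submodule A (M (n + 1))))
    (hbot : ∀ n, I ^ (n + 1) • (⊤ : Submodule A (M n)) = ⊥)
    {r : ℕ} (x : ∀ n, Fin r → M n) (hx : ∀ n i, f n (x (n + 1) i) = x n i)
    (hspan : ∀ n, Submodule.span A (Set.range (x n)) = ⊤)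
    (n : ℕ) (hproj : ∃ (m : ℕ) (i : M (n + 1) →ₗ[A] (Fin m → A ⧸ I ^ (n + 1 + 1)))
      (r : (Fin m → A ⧸ I ^ (n + 1 + 1)) →ₗ[A] M (n + 1)), r ∘ₗ i = LinearMap.id)
    (σ : M n →ₗ[A] (Fin r → A ⧸ I ^ (n + 1)))
    (hσ : comb (I ^ (n + 1)) (hbot n) (x n) ∘ₗ σ = LinearMap.id) :
    ∃ σ' : M (n + 1) →ₗ[A] (Fin r → A ⧸ I ^ (n + 1 + 1)),
      comb (I ^ (n + 1 + 1)) (hbot (n + 1)) (x (n + 1)) ∘ₗ σ' = LinearMap.id ∧
      ∀ y i, Ideal.Quotient.factor (Ideal.pow_le_pow_right (show n + 1 ≤ n + 1 + 1 by omega)) (σ' y i) =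
        σ (f n y) i := by
  classical
  have hle : I ^ (n + 1 + 1) ≤ I ^ (n + 1) := Ideal.pow_le_pow_right (show n + 1 ≤ n + 1 + 1 by omega)
  let t : (Fin r → A ⧸ I ^ (n + 1 + 1)) →ₗ[A] (Fin r → A ⧸ I ^ (n + 1)) :=
    LinearMap.pi fun i => (Ideal.Quotient.factorₐ A hle).toLinearMap ∘ₗ LinearMap.proj i
  have ht : ∀ c i, t c i = Ideal.Quotient.factor hle (c i) := fun c i => rfl
  set q := comb (I ^ (n + 1)) (hbot n) (x n) with hq
  set q' := comb (I ^ (n + 1 + 1)) (hbot (n + 1)) (x (n + 1)) with hq'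
  have hqt : ∀ c, f n (q' c) = q (t c) := by
    intro c
    choose a ha using fun j => Ideal.Quotient.mk_surjective (c j)
    obtain rfl : (fun j => Ideal.Quotient.mk _ (a j)) = c := funext ha
    have h1 : t (fun j => Ideal.Quotient.mk _ (a j)) = fun j => Ideal.Quotient.mk _ (a j) :=
      funext fun j => by rw [ht]; rfl
    rw [h1, hq, hq', comb_mk, comb_mk, map_sum]
    refine Finset.sum_congr rfl fun j _ => ?_
    rw [map_smul, hx]
  obtain ⟨σ', hσ'⟩ := exists_lift_of_retract (I ^ (n + 1 + 1)) hproj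
    (P := Fin r → A ⧸ I ^ (n + 1 + 1))
    (N := M (n + 1) × (Fin r → A ⧸ I ^ (n + 1)))
    (by
      rw [eq_bot_iff, Submodule.smul_le]
      intro a ha y _
      rw [Submodule.mem_bot]
      funext i
      rw [Pi.smul_apply, Algebra.smul_def, Ideal.Quotient.algebraMap_eq,
        Ideal.Quotient.eq_zero_iff_mem.mpr ha, zero_mul, Pi.zero_apply])
    (q'.prod t) (LinearMap.id.prod (σ ∘ₗ f n))
    (by
      intro y
      -- surjectivity onto the fibre product
      choose a ha using fun j => Ideal.Quotient.mk_surjective (σ (f n y) j)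
      let c' : Fin r → A ⧸ I ^ (n + 1 + 1) := fun j => Ideal.Quotient.mk _ (a j)
      have htc' : t c' = σ (f n y) := funext fun j => by rw [ht, ← ha j]; rfl
      have h1 : y - q' c' ∈ I ^ (n + 1) • (⊤ : Submodule A (M (n + 1))) := by
        rw [← hker, LinearMap.mem_ker, map_sub, hqt, htc', sub_eq_zero]
        exact (LinearMap.congr_fun hσ (f n y)).symm
      obtain ⟨e, he, hye⟩ := exists_sum_of_mem_smul_top (x (n + 1)) (hspan (n + 1)) (n + 1) _ h1
      refine ⟨c' + fun j => Ideal.Quotient.mk _ (e j), ?_⟩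
      have h2 : q' (c' + fun j => Ideal.Quotient.mk _ (e j)) = y := by
        rw [map_add]
        have : q' (fun j => Ideal.Quotient.mk _ (e j)) = ∑ j, e j • x (n + 1) j := by
          rw [hq', comb_mk]
        rw [this, ← hye]
        abel
      have h3 : t (c' + fun j => Ideal.Quotient.mk _ (e j)) = σ (f n y) := by
        rw [map_add, htc']
        have : t (fun j => Ideal.Quotient.mk _ (e j)) = 0 := by
          funext j
          rw [ht]
          change Ideal.Quotient.mk _ (e j) = 0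
          exact Ideal.Quotient.eq_zero_iff_mem.mpr (he j)
        rw [this, add_zero]
      exact Prod.ext h2 h3)
  refine ⟨σ', ?_, ?_⟩
  · apply LinearMap.ext
    intro y
    exact congrArg Prod.fst (LinearMap.congr_fun hσ' y)
  · intro y i
    have := congrArg (fun z => (Prod.snd z) i) (LinearMap.congr_fun hσ' y)
    exact this

theorem main [IsAdicComplete I A] (hf : ∀ n, Function.Surjective (f n))
    (hker : ∀ n, LinearMap.ker (f n) = I ^ (n + 1) • (⊤ : Submodule A (M (n + 1))))
    (hπ : ∀ n, f n ∘ₗ π (n + 1) = π n)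
    (hinj : ∀ x : L, (∀ n, π n x = 0) → x = 0)
    (hlift : ∀ y : (∀ n, M n), (∀ n, f n (y (n + 1)) = y n) → ∃ x : L, ∀ n, π n x = y n)
    (hproj : ∀ n, ∃ (m : ℕ) (i : M n →ₗ[A] (Fin m → A ⧸ I ^ (n + 1)))
      (r : (Fin m → A ⧸ I ^ (n + 1)) →ₗ[A] M n), r ∘ₗ i = LinearMap.id) :
    Module.Finite A L ∧ Module.Projective A L ∧
      ∀ n, Function.Surjective (π n) ∧ LinearMap.ker (π n) = I ^ (n + 1) • (⊤ : Submodule A L) := by
  classical
  have h0 : Module.Finite A (M 0) := by
    obtain ⟨m, i, r, hri⟩ := hproj 0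
    exact Module.Finite.of_surjective r fun y => ⟨i y, LinearMap.congr_fun hri y⟩
  obtain ⟨hfin, -, hsk⟩ := LimComplete.main (I := I) hf hker hπ hinj hlift h0
  refine ⟨hfin, ?_, hsk⟩
  have hbot := smul_top_eq_bot hf hker
  obtain ⟨r, X, hX⟩ := Module.Finite.exists_fin (R := A) (M := L)
  let x : ∀ n, Fin r → M n := fun n i => π n (X i)
  have hx : ∀ n i, f n (x (n + 1) i) = x n i := fun n i => LinearMap.congr_fun (hπ n) (X i)
  have hspan : ∀ n, Submodule.span A (Set.range (x n)) = ⊤ := by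
    intro n
    have : Set.range (x n) = π n '' Set.range X := by
      rw [← Set.range_comp]; rfl
    rw [this, ← Submodule.map_span, hX, Submodule.map_top, LinearMap.range_eq_top]
    exact (hsk n).1
  -- the initial section
  have hinit : ∃ σ : M 0 →ₗ[A] (Fin r → A ⧸ I ^ (0 + 1)),
      comb (I ^ (0 + 1)) (hbot 0) (x 0) ∘ₗ σ = LinearMap.id := by
    obtain ⟨σ, hσ⟩ := exists_lift_of_retract (I ^ (0 + 1)) (hproj 0)
      (P := Fin r → A ⧸ I ^ (0 + 1)) (N := M 0)
      (by
        rw [eq_bot_iff, Submodule.smul_le]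
        intro a ha y _
        rw [Submodule.mem_bot]
        funext i
        rw [Pi.smul_apply, Algebra.smul_def, Ideal.Quotient.algebraMap_eq,
          Ideal.Quotient.eq_zero_iff_mem.mpr ha, zero_mul, Pi.zero_apply])
      (comb (I ^ (0 + 1)) (hbot 0) (x 0)) LinearMap.id
      (by
        intro y
        have hy : y ∈ Submodule.span A (Set.range (x 0)) := by rw [hspan]; trivial
        obtain ⟨c, hc⟩ := (Submodule.mem_span_range_iff_exists_fun A).mp hy
        refine ⟨fun i => Ideal.Quotient.mk _ (c i), ?_⟩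
        rw [comb_mk, hc, LinearMap.id_apply])
    exact ⟨σ, hσ⟩
  -- all the sections
  let S : ∀ n, { σ : M n →ₗ[A] (Fin r → A ⧸ I ^ (n + 1)) //
      comb (I ^ (n + 1)) (hbot n) (x n) ∘ₗ σ = LinearMap.id } := fun n =>
    Nat.rec (motive := fun n => { σ : M n →ₗ[A] (Fin r → A ⧸ I ^ (n + 1)) //
      comb (I ^ (n + 1)) (hbot n) (x n) ∘ₗ σ = LinearMap.id })
      ⟨hinit.choose, hinit.choose_spec⟩
      (fun n s => ⟨(section_step hf hker hbot x hx hspan n (hproj (n + 1)) s.1 s.2).choose,
        (section_step hf hker hbot x hx hspan n (hproj (n + 1)) s.1 s.2).choose_spec.1⟩) n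
  have hS : ∀ n y i, Ideal.Quotient.factor (Ideal.pow_le_pow_right (show n + 1 ≤ n + 1 + 1 by omega))
      ((S (n + 1)).1 y i) = (S n).1 (f n y) i := fun n =>
    (section_step hf hker hbot x hx hspan n (hproj (n + 1)) (S n).1 (S n).2).choose_spec.2
  choose s hs using fun i : Fin r => exists_linear_of_compatible (I := I)
    (fun n => (LinearMap.proj i ∘ₗ (S n).1 ∘ₗ π n : L →ₗ[A] A ⧸ I ^ (n + 1))) (by
      intro n y
      change Ideal.Quotient.factor _ ((S (n + 1)).1 (π (n + 1) y) i) = (S n).1 (π n y) i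
      have h5 : f n (π (n + 1) y) = π n y := LinearMap.congr_fun (hπ n) y
      rw [hS, h5])
  let P : (Fin r → A) →ₗ[A] L := Fintype.linearCombination A X
  refine Module.Projective.of_split (LinearMap.pi s) P ?_
  apply LinearMap.ext
  intro y
  rw [LinearMap.comp_apply, LinearMap.id_apply, ← sub_eq_zero]
  apply hinj
  intro n
  rw [map_sub, sub_eq_zero]
  have h1 : P (LinearMap.pi s y) = ∑ i, s i y • X i := rfl
  rw [h1, map_sum]
  have h2 := LinearMap.congr_fun (S n).2 (π n y)
  rw [LinearMap.id_apply, LinearMap.comp_apply] at h2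
  rw [← h2]
  have h3 : (S n).1 (π n y) = fun i => Ideal.Quotient.mk _ (s i y) := by
    funext i
    rw [hs i n y]
    rfl
  rw [h3, comb_mk]
  exact Finset.sum_congr rfl fun i _ => map_smul _ _ _

end K23.LimProj
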