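import Groth.Agent.S0530
import Groth.Agent.Ega1.LimitSystem
import Mathlib.RingTheory.Ideal.KrullsHeightTheorem
import Mathlib.RingTheory.HopkinsLevitzki
import Mathlib.RingTheory.KrullDimension.Zero
import Mathlib.RingTheory.Henselian
import Mathlib.Topology.Separation.Connected
import Mathlib.RingTheory.Jacobson.Artinian
import Mathlib.RingTheory.Ideal.GoingUp
import Mathlib.RingTheory.FiniteType
import Mathlib.RingTheory.KrullDimension.Field

/-!
# Rig-closed primes of adic Noetherian rings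

For a Noetherian ring `A` complete for the `I`-adic topology, a prime `q` is rig-closed if `I ⊄ q` and
`q` is maximal among the primes not containing `I`.
-/

set_option autoImplicit false
universe u v

namespace K23.RigClosed

/-- completeness for a larger ideal with a power in the smaller one. -/
theorem isAdicComplete_of_pow_le {R : Type*} [CommRing R] {I J : Ideal R} [IsAdicComplete I R]
    (h1 : I ≤ J) {k : ℕ} (h2 : J ^ k ≤ I) : IsAdicComplete J R := by
  have hk : ∀ n : ℕ, J ^ ((k + 1) * n) ≤ I ^ n := by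
    intro n
    rw [pow_mul]
    exact Ideal.pow_right_mono ((Ideal.pow_le_pow_right (Nat.le_succ k)).trans h2) n
  have hle : ∀ n : ℕ, n ≤ (k + 1) * n := fun n => Nat.le_mul_of_pos_left n (Nat.succ_pos k)
  refine { haus' := fun x hx => ?_, prec' := fun f hf => ?_ }
  · apply IsHausdorff.haus' (I := I)
    intro n
    have := hx ((k + 1) * n)
    rw [SModEq.zero, smul_eq_mul, Ideal.mul_top] at this ⊢
    exact hk n this
  · obtain ⟨L, hL⟩ := IsPrecomplete.prec' (I := I) (M := R) (fun n => f ((k + 1) * n)) (by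
      intro m n hmn
      have := hf (Nat.mul_le_mul_left (k + 1) hmn)
      rw [SModEq.sub_mem, smul_eq_mul, Ideal.mul_top] at this ⊢
      exact hk m this)
    refine ⟨L, fun n => ?_⟩
    have h3 := hf (hle n)
    have h4 := hL n
    rw [SModEq.sub_mem, smul_eq_mul, Ideal.mul_top] at h3 h4 ⊢
    have := add_mem h3 (Ideal.pow_right_mono h1 n h4)
    simpa using this

/-- In a Noetherian domain with a nonzero element contained in all nonzero primes, every nonzero
prime is maximal. -/
theorem isMaximal_of_forall_mem {R : Type u} [CommRing R] [IsDomain R] [IsNoetherianRing R] {f : R}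
    (hf : f ≠ 0) (h : ∀ P : Ideal R, P.IsPrime → P ≠ ⊥ → f ∈ P) (P : Ideal R) (hP : P.IsPrime)
    (hP0 : P ≠ ⊥) : P.IsMaximal := by
  classical
  have key : ∀ Q : Ideal R, Q.IsPrime → Q ≠ ⊥ → Q ∈ (Ideal.span {f}).minimalPrimes := by
    intro Q hQ hQ0
    have hfin := Ideal.finite_minimalPrimes_of_isNoetherianRing R (Ideal.span {f})
    have hsub : (Q : Set R) ⊆ ⋃ i ∈ hfin.toFinset, ((i : Ideal R) : Set R) := by
      intro x hx
      by_cases hx0 : x = 0
      · obtain ⟨p, hp, -⟩ := Ideal.exists_minimalPrimes_le (I := Ideal.span {f}) (J := Q)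
          ((Ideal.span_singleton_le_iff_mem _).mpr (h Q hQ hQ0))
        simp only [Set.mem_iUnion, Set.Finite.mem_toFinset]
        exact ⟨p, hp, by rw [hx0]; exact p.zero_mem⟩
      obtain ⟨p, hp, hpQ⟩ := Ideal.exists_minimalPrimes_le (I := Ideal.span {x}) (J := Q)
        ((Ideal.span_singleton_le_iff_mem _).mpr hx)
      have hpp : p.IsPrime := hp.1.1
      have hxp : x ∈ p := hp.1.2 (Ideal.mem_span_singleton_self x)
      have hp0 : p ≠ ⊥ := by
        rintro rfl
        exact hx0 (by simpa using hxp)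
      obtain ⟨p', hp', hp'p⟩ := Ideal.exists_minimalPrimes_le (I := Ideal.span {f}) (J := p)
        ((Ideal.span_singleton_le_iff_mem _).mpr (h p hpp hp0))
      have hpp' : p'.IsPrime := hp'.1.1
      have hp'0 : p' ≠ ⊥ := by
        rintro rfl
        exact hf (by simpa using hp'.1.2 (Ideal.mem_span_singleton_self f))
      have hh : p.height ≤ 1 :=
        Ideal.height_le_one_of_isPrincipal_of_mem_minimalPrimes (Ideal.span {x}) p hp
      have heq : p' = p := by
        by_contra hne
        have hlt : p' < p := lt_of_le_of_ne hp'p hne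
        have h1 := Ideal.height_add_one_le_of_lt_of_isPrime (bot_lt_iff_ne_bot.mpr hp'0)
        have h2 := Ideal.height_add_one_le_of_lt_of_isPrime hlt
        have h3 : (2 : ℕ∞) ≤ 1 := by
          calc (2 : ℕ∞) = 0 + 1 + 1 := by norm_num
            _ ≤ (⊥ : Ideal R).height + 1 + 1 := by gcongr; exact zero_le
            _ ≤ p'.height + 1 := by gcongr
            _ ≤ 1 := h2.trans hh
        exact absurd h3 (by decide)
      simp only [Set.mem_iUnion, Set.Finite.mem_toFinset]
      exact ⟨p', hp', by rw [heq]; exact hxp⟩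
    obtain ⟨i, hi, hQi⟩ := (Ideal.subset_union_prime (f := fun i : Ideal R => i) ⊥ ⊥ (by
      intro i hi _ _
      exact ((Set.Finite.mem_toFinset _).mp hi).1.1)).mp hsub
    have hi' := (Set.Finite.mem_toFinset hfin).mp hi
    have : i ≤ Q := hi'.2 ⟨hQ, (Ideal.span_singleton_le_iff_mem _).mpr (h Q hQ hQ0)⟩ hQi
    rw [le_antisymm hQi this]
    exact hi'
  obtain ⟨M, hM, hPM⟩ := Ideal.exists_le_maximal P hP.ne_top
  have hM0 : M ≠ ⊥ := fun h0 => hP0 (le_bot_iff.mp (h0 ▸ hPM))
  have h1 := key M hM.isPrime hM0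
  have h2 : M ≤ P := h1.2 ⟨hP, (Ideal.span_singleton_le_iff_mem _).mpr (h P hP hP0)⟩ hPM
  rw [le_antisymm hPM h2]
  exact hM

/-- dimension one, from: not a field and all nonzero primes are maximal. -/
theorem ringKrullDim_eq_one {R : Type u} [CommRing R] [IsDomain R]
    (h : ∀ P : Ideal R, P.IsPrime → P ≠ ⊥ → P.IsMaximal) (hf : ¬ (⊥ : Ideal R).IsMaximal) :
    ringKrullDim R = 1 := by
  have h1 : Ring.KrullDimLE 1 R := Ring.krullDimLE_one_iff_of_noZeroDivisors.mpr
    fun P hP0 hP => h P hP hP0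
  have h2 : ringKrullDim R ≤ 1 := h1.krullDim_le
  refine le_antisymm h2 ?_
  by_contra h3
  rw [not_le] at h3
  have h4 : ringKrullDim R ≤ 0 := by
    generalize ringKrullDim R = d at h3
    induction d using WithBot.recBotCoe with
    | bot => exact bot_le
    | coe d =>
      have h5 : d < 1 := by exact_mod_cast h3
      rw [Order.lt_one_iff] at h5
      rw [h5]
      rfl
  have h5 : Ring.KrullDimLE 0 R := ⟨by exact_mod_cast h4⟩
  exact hf (Ideal.isMaximal_of_isPrime (⊥ : Ideal R))

variable {A : Type u} [CommRing A]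

/-- A prime strictly containing a prime `q` corresponds to a nonzero prime of `A/q`. -/
theorem isPrime_map_mk {q P : Ideal A} [hP : P.IsPrime] (h : q ≤ P) :
    (P.map (Ideal.Quotient.mk q)).IsPrime :=
  Ideal.map_isPrime_of_surjective Ideal.Quotient.mk_surjective (by rwa [Ideal.mk_ker])

theorem comap_map_mk {q P : Ideal A} (h : q ≤ P) :
    (P.map (Ideal.Quotient.mk q)).comap (Ideal.Quotient.mk q) = P := by
  rw [Ideal.comap_map_of_surjective _ Ideal.Quotient.mk_surjective, ← RingHom.ker_eq_comap_bot,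
    Ideal.mk_ker, sup_eq_left]
  exact h

theorem map_mk_ne_bot {q P : Ideal A} (h : q < P) : P.map (Ideal.Quotient.mk q) ≠ ⊥ := by
  intro h0
  have h1 := comap_map_mk h.le
  rw [h0, ← RingHom.ker_eq_comap_bot, Ideal.mk_ker] at h1
  exact h.ne h1

/-- translation between points and prime ideals. -/
theorem iff_primeSpectrum (I : Ideal A) (q : PrimeSpectrum A) :
    (¬ I ≤ q.asIdeal ∧ ∀ q' : PrimeSpectrum A, q ≤ q' → ¬ I ≤ q'.asIdeal → q' = q) ↔
      (¬ I ≤ q.asIdeal ∧ ∀ q' : Ideal A, q'.IsPrime → q.asIdeal ≤ q' → ¬ I ≤ q' →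
        q' = q.asIdeal) := by
  refine and_congr_right fun _ => ⟨fun h q' hq' hle hI => ?_, fun h q' hle hI => ?_⟩
  · exact congrArg PrimeSpectrum.asIdeal (h ⟨q', hq'⟩ hle hI)
  · exact PrimeSpectrum.ext (h q'.asIdeal q'.isPrime hle hI)

section Noeth

variable [IsNoetherianRing A] (I : Ideal A) [IsAdicComplete I A]

theorem quotient_complete (q : Ideal A) : IsAdicComplete (I.map (Ideal.Quotient.mk q)) (A ⧸ q) := by
  have h : IsAdicComplete I (A ⧸ q) := Groth.Agent.Ega1.LimitSystem.isAdicComplete_of_finite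
  rw [← Ideal.Quotient.algebraMap_eq, IsAdicComplete.map_algebraMap_iff]
  exact h

omit [IsNoetherianRing A] in
theorem le_of_isMaximal (m : Ideal A) [m.IsMaximal] : I ≤ m :=
  (IsAdicComplete.le_jacobson_bot I).trans (sInf_le ⟨bot_le, inferInstance⟩)

omit [IsAdicComplete I A] in
/-- primes strictly containing a rig-closed prime are maximal. -/
theorem isMaximal_of_lt (q : Ideal A) [q.IsPrime] (h1 : ¬ I ≤ q)
    (h2 : ∀ q' : Ideal A, q'.IsPrime → q ≤ q' → ¬ I ≤ q' → q' = q) (P : Ideal A) [P.IsPrime]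
    (hqP : q < P) : P.IsMaximal := by
  obtain ⟨f, hfI, hfq⟩ := SetLike.not_le_iff_exists.mp h1
  have hf0 : Ideal.Quotient.mk q f ≠ 0 := fun h0 => hfq (Ideal.Quotient.eq_zero_iff_mem.mp h0)
  have hall : ∀ P : Ideal (A ⧸ q), P.IsPrime → P ≠ ⊥ → Ideal.Quotient.mk q f ∈ P := by
    intro P hP hP0
    by_contra hf
    have hq' : q ≤ P.comap (Ideal.Quotient.mk q) := by
      intro x hx
      rw [Ideal.mem_comap, Ideal.Quotient.eq_zero_iff_mem.mpr hx]
      exact P.zero_mem
    have h3 := h2 (P.comap (Ideal.Quotient.mk q)) (Ideal.IsPrime.comap _) hq'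
      (fun h => hf (h hfI))
    apply hP0
    rw [← Ideal.map_comap_of_surjective _ Ideal.Quotient.mk_surjective P, h3,
      Ideal.map_quotient_self]
  have := isMaximal_of_forall_mem hf0 hall _ (isPrime_map_mk hqP.le) (map_mk_ne_bot hqP)
  rw [← comap_map_mk hqP.le]
  exact Ideal.comap_isMaximal_of_surjective _ Ideal.Quotient.mk_surjective

/-- the structure of rig-closed primes. -/
theorem exists_maximal (q : Ideal A) [q.IsPrime] (h1 : ¬ I ≤ q)
    (h2 : ∀ q' : Ideal A, q'.IsPrime → q ≤ q' → ¬ I ≤ q' → q' = q) :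
    ∃ m : Ideal A, m.IsMaximal ∧ q < m ∧ ∀ P : Ideal A, P.IsPrime → q < P → P = m := by
  obtain ⟨m, hm, hqm⟩ := Ideal.exists_le_maximal q (Ideal.IsPrime.ne_top ‹_›)
  have hlt : q < m := lt_of_le_of_ne hqm (fun h => h1 (h ▸ le_of_isMaximal I m))
  refine ⟨m, hm, hlt, fun P hP hqP => ?_⟩
  have hI : ∀ P : Ideal A, P.IsPrime → q < P → I ≤ P := fun P hP hqP => by
    by_contra h
    exact hqP.ne' (h2 P hP hqP.le h)
  have h0 : Ring.KrullDimLE 0 (A ⧸ (q ⊔ I)) := by
    refine Ring.KrullDimLE.mk₀ fun Q hQ => ?_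
    have hle : q ⊔ I ≤ Q.comap (Ideal.Quotient.mk (q ⊔ I)) := by
      intro x hx
      rw [Ideal.mem_comap, Ideal.Quotient.eq_zero_iff_mem.mpr hx]
      exact Q.zero_mem
    have hQp : (Q.comap (Ideal.Quotient.mk (q ⊔ I))).IsPrime := Ideal.IsPrime.comap _
    have hlt' : q < Q.comap (Ideal.Quotient.mk (q ⊔ I)) :=
      lt_of_le_of_ne (le_sup_left.trans hle) (fun h => h1 (by
        have := le_sup_right.trans hle
        rwa [← h] at this))
    have := isMaximal_of_lt I q h1 h2 _ hlt'
    rw [← Ideal.map_comap_of_surjective _ Ideal.Quotient.mk_surjective Q]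
    refine (Ideal.map_eq_top_or_isMaximal_of_surjective _ Ideal.Quotient.mk_surjective this).resolve_left ?_
    rw [Ideal.map_comap_of_surjective _ Ideal.Quotient.mk_surjective Q]
    exact hQ.ne_top
  have hart : IsArtinianRing (A ⧸ (q ⊔ I)) := isArtinianRing_iff_krullDimLE_zero.mpr h0
  have hconn := Groth.Agent.S0530.result A I q
  have hsub : Subsingleton (PrimeSpectrum (A ⧸ (q ⊔ I))) := PreconnectedSpace.trivial_of_discrete
  have hp : ∀ P : Ideal A, P.IsPrime → q < P → ∃ x : PrimeSpectrum (A ⧸ (q ⊔ I)),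
      x.asIdeal.comap (Ideal.Quotient.mk (q ⊔ I)) = P := fun P hP hqP =>
    ⟨⟨P.map (Ideal.Quotient.mk (q ⊔ I)), isPrime_map_mk (sup_le hqP.le (hI P hP hqP))⟩,
      comap_map_mk (sup_le hqP.le (hI P hP hqP))⟩
  obtain ⟨x, hx⟩ := hp P hP hqP
  obtain ⟨y, hy⟩ := hp m hm.isPrime hlt
  rw [← hx, ← hy, Subsingleton.elim x y]

omit [IsNoetherianRing A] in
/-- the radical of the image of `I` in `A/q` is the maximal ideal. -/
theorem map_radical_eq (q : Ideal A) [q.IsPrime] (h1 : ¬ I ≤ q) {m : Ideal A} (hm : m.IsMaximal)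
    (hqm : q < m) (hu : ∀ P : Ideal A, P.IsPrime → q < P → P = m) :
    (I.map (Ideal.Quotient.mk q)).radical = m.map (Ideal.Quotient.mk q) := by
  have hmp : (m.map (Ideal.Quotient.mk q)).IsPrime :=
    have := hm.isPrime
    isPrime_map_mk hqm.le
  refine le_antisymm ?_ ?_
  · rw [hmp.radical_le_iff]
    exact Ideal.map_mono (le_of_isMaximal I m)
  · rw [Ideal.radical_eq_sInf]
    refine le_sInf ?_
    rintro P ⟨hIP, hP⟩
    have hle : q ≤ P.comap (Ideal.Quotient.mk q) := by
      intro x hx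
      rw [Ideal.mem_comap, Ideal.Quotient.eq_zero_iff_mem.mpr hx]
      exact P.zero_mem
    have hne : q < P.comap (Ideal.Quotient.mk q) := by
      refine lt_of_le_of_ne hle fun h => h1 ?_
      rw [Ideal.map_le_iff_le_comap, ← h] at hIP
      exact hIP
    have := hu _ (Ideal.IsPrime.comap _) hne
    rw [← this, Ideal.map_comap_of_surjective _ Ideal.Quotient.mk_surjective]

/-- the equivalent forms of rig-closedness. -/
theorem tfae (q : Ideal A) [q.IsPrime] : List.TFAE
    [¬ I ≤ q ∧ ∀ q' : Ideal A, q'.IsPrime → q ≤ q' → ¬ I ≤ q' → q' = q,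
      ringKrullDim (A ⧸ q) = 1 ∧ ¬ I ≤ q,
      ringKrullDim (A ⧸ q) = 1 ∧
        (∀ m : Ideal (A ⧸ q), m.IsMaximal → m = (I.map (Ideal.Quotient.mk q)).radical) ∧
        IsAdicComplete (I.map (Ideal.Quotient.mk q)).radical (A ⧸ q)] := by
  tfae_have 1 → 3 := by
    rintro ⟨h1, h2⟩
    obtain ⟨m, hm, hqm, hu⟩ := exists_maximal I q h1 h2
    have hrad := map_radical_eq I q h1 hm hqm hu
    have hlt : ∀ P : Ideal (A ⧸ q), P.IsPrime → P ≠ ⊥ → q < P.comap (Ideal.Quotient.mk q) := by
      intro P hP hP0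
      refine lt_of_le_of_ne ?_ ?_
      · intro x hx
        rw [Ideal.mem_comap, Ideal.Quotient.eq_zero_iff_mem.mpr hx]
        exact P.zero_mem
      · intro h
        apply hP0
        rw [← Ideal.map_comap_of_surjective _ Ideal.Quotient.mk_surjective P, ← h,
          Ideal.map_quotient_self]
    have hmax : ∀ P : Ideal (A ⧸ q), P.IsPrime → P ≠ ⊥ → P = m.map (Ideal.Quotient.mk q) := by
      intro P hP hP0
      rw [← hu _ (Ideal.IsPrime.comap _) (hlt P hP hP0),
        Ideal.map_comap_of_surjective _ Ideal.Quotient.mk_surjective P]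
    have hmm : (m.map (Ideal.Quotient.mk q)).IsMaximal := by
      refine (Ideal.map_eq_top_or_isMaximal_of_surjective _ Ideal.Quotient.mk_surjective hm).resolve_left ?_
      intro h
      have := comap_map_mk hqm.le
      rw [h, Ideal.comap_top] at this
      exact hm.ne_top this.symm
    have hbot : ¬ (⊥ : Ideal (A ⧸ q)).IsMaximal := by
      intro h
      exact map_mk_ne_bot hqm (h.eq_of_le hmm.ne_top bot_le).symm
    refine ⟨ringKrullDim_eq_one (fun P hP hP0 => by rw [hmax P hP hP0]; exact hmm) hbot, ?_, ?_⟩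
    · intro m' hm'
      rw [hrad]
      exact hmax m' hm'.isPrime (fun h => hbot (h ▸ hm'))
    · have := quotient_complete I q
      obtain ⟨k, hk⟩ := Ideal.exists_radical_pow_le_of_fg (I.map (Ideal.Quotient.mk q))
        (IsNoetherian.noetherian _)
      exact isAdicComplete_of_pow_le Ideal.le_radical hk
  tfae_have 3 → 2 := by
    rintro ⟨h1, h2, -⟩
    refine ⟨h1, fun h => ?_⟩
    have h3 : I.map (Ideal.Quotient.mk q) = ⊥ := by
      rw [eq_bot_iff, ← Ideal.map_quotient_self q]
      exact Ideal.map_mono h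
    obtain ⟨m, hm⟩ := Ideal.exists_maximal (A ⧸ q)
    have h4 := h2 m hm
    have h5 : (⊥ : Ideal (A ⧸ q)).radical = ⊥ := (Ideal.isPrime_bot).radical
    rw [h3, h5] at h4
    subst h4
    have h6 : IsField (A ⧸ q) := Ring.isField_iff_maximal_bot.mpr hm
    rw [ringKrullDim_eq_zero_of_isField h6] at h1
    exact absurd h1 (by norm_num)
  tfae_have 2 → 1 := by
    rintro ⟨h1, h2⟩
    refine ⟨h2, fun q' hq' hle hI => ?_⟩
    by_contra hne
    have hlt : q < q' := lt_of_le_of_ne hle (Ne.symm hne)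
    have h3 : Ring.KrullDimLE 1 (A ⧸ q) := ⟨h1.le⟩
    have h4 : (q'.map (Ideal.Quotient.mk q)).IsPrime := isPrime_map_mk hle
    have h5 : (q'.map (Ideal.Quotient.mk q)).IsMaximal :=
      h4.isMaximal_of_ne_bot (map_mk_ne_bot hlt)
    have h6 : q'.IsMaximal := by
      rw [← comap_map_mk hle]
      exact Ideal.comap_isMaximal_of_surjective _ Ideal.Quotient.mk_surjective
    exact hI (le_of_isMaximal I q')
  tfae_finish

end Noeth

section Algebra

variable [IsNoetherianRing A] (I : Ideal A) [IsAdicComplete I A] (B : Type v) [CommRing B]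
  [Algebra A B] [IsNoetherianRing B] [IsAdicComplete (I.map (algebraMap A B)) B]

/-- finiteness of `B/q` over `A`, `q` rig-closed, from maximality of the trace of the maximal ideal. -/
theorem finite_quotient (hft : Algebra.FiniteType A (B ⧸ I.map (algebraMap A B)))
    (q : Ideal B) [q.IsPrime] (h1 : ¬ I.map (algebraMap A B) ≤ q)
    {m : Ideal B} (hm : m.IsMaximal) (hqm : q < m) (hu : ∀ P : Ideal B, P.IsPrime → q < P → P = m)
    (hn : (m.comap (algebraMap A B)).IsMaximal) : Module.Finite A (B ⧸ q) := by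
  set IB := I.map (algebraMap A B) with hIB
  set n := m.comap (algebraMap A B) with hndef
  -- the radical of `q + IB` is `m`
  have hrad : (q ⊔ IB).radical = m := by
    refine le_antisymm ?_ ?_
    · rw [hm.isPrime.radical_le_iff]
      exact sup_le hqm.le (le_of_isMaximal IB m)
    · rw [Ideal.radical_eq_sInf]
      refine le_sInf ?_
      rintro P ⟨hP, hPp⟩
      have hlt : q < P := lt_of_le_of_ne (le_sup_left.trans hP) (fun h => h1 (by
        have := le_sup_right.trans hP
        rwa [← h] at this))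
      exact (hu P hPp hlt).ge
  obtain ⟨k, hk⟩ := Ideal.exists_radical_pow_le_of_fg (q ⊔ IB) (IsNoetherian.noetherian _)
  rw [hrad] at hk
  let C := B ⧸ (q ⊔ IB)
  have hnk : ∀ a ∈ n ^ k, algebraMap A C a = 0 := by
    intro a ha
    have h3 : algebraMap A B a ∈ m ^ k := by
      have : algebraMap A B a ∈ (n ^ k).map (algebraMap A B) := Ideal.mem_map_of_mem _ ha
      rw [Ideal.map_pow] at this
      exact Ideal.pow_right_mono Ideal.map_comap_le k this
    exact Ideal.Quotient.eq_zero_iff_mem.mpr (hk h3)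
  let _ : Algebra (A ⧸ n ^ k) C := (Ideal.Quotient.lift (n ^ k) (algebraMap A C) hnk).toAlgebra
  have _ : IsScalarTower A (A ⧸ n ^ k) C := IsScalarTower.of_algebraMap_eq fun a => rfl
  -- `A/n^k` is Artinian
  have hart : IsArtinianRing (A ⧸ n ^ k) := by
    rw [isArtinianRing_iff_krullDimLE_zero]
    refine Ring.KrullDimLE.mk₀ fun Q hQ => ?_
    have hle : n ^ k ≤ Q.comap (Ideal.Quotient.mk (n ^ k)) := by
      intro x hx
      rw [Ideal.mem_comap, Ideal.Quotient.eq_zero_iff_mem.mpr hx]
      exact Q.zero_mem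
    have hQp : (Q.comap (Ideal.Quotient.mk (n ^ k))).IsPrime := Ideal.IsPrime.comap _
    have h4 : n ≤ Q.comap (Ideal.Quotient.mk (n ^ k)) := Ideal.IsPrime.le_of_pow_le hle
    have h5 := hn.eq_of_le hQp.ne_top h4
    have h6 : (Q.comap (Ideal.Quotient.mk (n ^ k))).IsMaximal := h5 ▸ hn
    rw [← Ideal.map_comap_of_surjective _ Ideal.Quotient.mk_surjective Q]
    refine (Ideal.map_eq_top_or_isMaximal_of_surjective _ Ideal.Quotient.mk_surjective h6).resolve_left ?_
    rw [Ideal.map_comap_of_surjective _ Ideal.Quotient.mk_surjective Q]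
    exact hQ.ne_top
  have hftC : Algebra.FiniteType A C :=
    hft.of_surjective (Ideal.Quotient.factorₐ A (le_sup_right : IB ≤ q ⊔ IB))
      (Ideal.Quotient.factor_surjective (le_sup_right : IB ≤ q ⊔ IB))
  have hftC' : Algebra.FiniteType (A ⧸ n ^ k) C :=
    Algebra.FiniteType.of_restrictScalars_finiteType A (A ⧸ n ^ k) C
  have hC0 : Ring.KrullDimLE 0 C := by
    refine Ring.KrullDimLE.mk₀ fun Q hQ => ?_
    have hle : q ⊔ IB ≤ Q.comap (Ideal.Quotient.mk (q ⊔ IB)) := by
      intro x hx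
      rw [Ideal.mem_comap, Ideal.Quotient.eq_zero_iff_mem.mpr hx]
      exact Q.zero_mem
    have hlt : q < Q.comap (Ideal.Quotient.mk (q ⊔ IB)) :=
      lt_of_le_of_ne (le_sup_left.trans hle) (fun h => h1 (by
        have := le_sup_right.trans hle
        rwa [← h] at this))
    have h6 : (Q.comap (Ideal.Quotient.mk (q ⊔ IB))).IsMaximal := by
      rw [hu _ (Ideal.IsPrime.comap _) hlt]
      exact hm
    rw [← Ideal.map_comap_of_surjective _ Ideal.Quotient.mk_surjective Q]
    refine (Ideal.map_eq_top_or_isMaximal_of_surjective _ Ideal.Quotient.mk_surjective h6).resolve_left ?_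
    rw [Ideal.map_comap_of_surjective _ Ideal.Quotient.mk_surjective Q]
    exact hQ.ne_top
  have hfinC' : Module.Finite (A ⧸ n ^ k) C := (Module.finite_iff_krullDimLE_zero (A ⧸ n ^ k) C).mpr hC0
  have hfinC : Module.Finite A C :=
    Module.Finite.trans (A ⧸ n ^ k) C
  -- `B/q` is `I`-adically complete
  have hcompl : IsAdicComplete I (B ⧸ q) := by
    have h : IsAdicComplete IB (B ⧸ q) := Groth.Agent.Ega1.LimitSystem.isAdicComplete_of_finite
    rwa [hIB, IsAdicComplete.map_algebraMap_iff] at h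
  -- the quotient
  refine Groth.Agent.Ega1.LimitSystem.finite_of_finite_quotient (I := I) ?_
  let N : Submodule A (B ⧸ q) := I • ⊤
  have hker : ∀ x ∈ (q ⊔ IB).restrictScalars A,
      (N.mkQ ∘ₗ (Ideal.Quotient.mkₐ A q).toLinearMap) x = 0 := by
    intro x hx
    obtain ⟨y, hy, z, hz, rfl⟩ := Submodule.mem_sup.mp hx
    rw [LinearMap.comp_apply, Submodule.mkQ_apply, Submodule.Quotient.mk_eq_zero]
    have h7 : (Ideal.Quotient.mkₐ A q).toLinearMap (y + z) = Ideal.Quotient.mk q z := by
      rw [AlgHom.toLinearMap_apply, Ideal.Quotient.mkₐ_eq_mk, map_add,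
        Ideal.Quotient.eq_zero_iff_mem.mpr hy, zero_add]
    rw [h7]
    rw [hIB] at hz
    change _ ∈ (I • ⊤ : Submodule A (B ⧸ q))
    rw [Ideal.smul_top_eq_map, Submodule.restrictScalars_mem,
      IsScalarTower.algebraMap_eq A B (B ⧸ q), ← Ideal.map_map]
    exact Ideal.mem_map_of_mem _ hz
  let g : (B ⧸ (q ⊔ IB)) →ₗ[A] (B ⧸ q) ⧸ N :=
    Submodule.liftQ ((q ⊔ IB).restrictScalars A) (N.mkQ ∘ₗ (Ideal.Quotient.mkₐ A q).toLinearMap) hker
  have hg : Function.Surjective g := by
    intro y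
    obtain ⟨x, rfl⟩ := Submodule.Quotient.mk_surjective _ y
    obtain ⟨b, rfl⟩ := Ideal.Quotient.mk_surjective x
    exact ⟨Ideal.Quotient.mk _ b, rfl⟩
  exact Module.Finite.of_surjective g hg

theorem tfae_finite (hft : Algebra.FiniteType A (B ⧸ I.map (algebraMap A B)))
    (q : Ideal B) [q.IsPrime] (h1 : ¬ I.map (algebraMap A B) ≤ q)
    (h2 : ∀ q' : Ideal B, q'.IsPrime → q ≤ q' → ¬ I.map (algebraMap A B) ≤ q' → q' = q) :
    List.TFAE
    [∀ m : Ideal B, m.IsMaximal → q ≤ m → Module.Finite A (B ⧸ m),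
      ¬ I ≤ q.comap (algebraMap A B) ∧ ∀ y : Ideal A, y.IsPrime → q.comap (algebraMap A B) ≤ y →
        ¬ I ≤ y → y = q.comap (algebraMap A B),
      Module.Finite A (B ⧸ q)] := by
  obtain ⟨m, hm, hqm, hu⟩ := exists_maximal (I.map (algebraMap A B)) q h1 h2
  have hI : ¬ I ≤ q.comap (algebraMap A B) := fun h => h1 (Ideal.map_le_iff_le_comap.mpr h)
  tfae_have 3 → 1 := by
    intro h m' hm' hqm'
    exact Module.Finite.of_surjective (Ideal.Quotient.factorₐ A hqm').toLinearMap
      (Ideal.Quotient.factor_surjective hqm')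
  tfae_have 1 → 3 := by
    intro h
    have h3 := h m hm hqm.le
    have h4 : (⊥ : Ideal (B ⧸ m)).IsMaximal := by
      rw [← Ring.isField_iff_maximal_bot]
      exact (Ideal.Quotient.maximal_ideal_iff_isField_quotient m).mp hm
    have h5 := Ideal.isMaximal_comap_of_isIntegral_of_isMaximal (R := A) (⊥ : Ideal (B ⧸ m))
    refine finite_quotient I B hft q h1 hm hqm hu ?_
    have h6 : (⊥ : Ideal (B ⧸ m)).comap (algebraMap A (B ⧸ m)) = m.comap (algebraMap A B) := by
      rw [IsScalarTower.algebraMap_eq A B (B ⧸ m), ← Ideal.comap_comap, Ideal.Quotient.algebraMap_eq,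
        ← RingHom.ker_eq_comap_bot, Ideal.mk_ker]
    rwa [h6] at h5
  tfae_have 2 → 3 := by
    rintro ⟨h3, h4⟩
    refine finite_quotient I B hft q h1 hm hqm hu ?_
    have hle : q.comap (algebraMap A B) ≤ m.comap (algebraMap A B) := Ideal.comap_mono hqm.le
    have hIm : I ≤ m.comap (algebraMap A B) :=
      Ideal.map_le_iff_le_comap.mp (le_of_isMaximal (I.map (algebraMap A B)) m)
    have hlt : q.comap (algebraMap A B) < m.comap (algebraMap A B) :=
      lt_of_le_of_ne hle (fun h => hI (h ▸ hIm))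
    have : (q.comap (algebraMap A B)).IsPrime := Ideal.IsPrime.comap _
    have : (m.comap (algebraMap A B)).IsPrime := Ideal.IsPrime.comap _
    exact isMaximal_of_lt I (q.comap (algebraMap A B)) hI h4 _ hlt
  tfae_have 3 → 2 := by
    intro h
    refine ⟨hI, fun y hy hle hIy => ?_⟩
    obtain ⟨Q, -, hQ, hQy⟩ := Ideal.exists_ideal_over_prime_of_isIntegral (S := B ⧸ q) y ⊥ (by
      rw [IsScalarTower.algebraMap_eq A B (B ⧸ q), ← Ideal.comap_comap,
        Ideal.Quotient.algebraMap_eq, ← RingHom.ker_eq_comap_bot, Ideal.mk_ker]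
      exact hle)
    have h3 : q ≤ Q.comap (Ideal.Quotient.mk q) := by
      intro x hx
      rw [Ideal.mem_comap, Ideal.Quotient.eq_zero_iff_mem.mpr hx]
      exact Q.zero_mem
    have h4 : (Q.comap (Ideal.Quotient.mk q)).comap (algebraMap A B) = y := by
      rw [Ideal.comap_comap]
      exact hQy
    have h5 := h2 (Q.comap (Ideal.Quotient.mk q)) (Ideal.IsPrime.comap _) h3 (fun h => hIy (by
      rw [← h4]
      exact Ideal.map_le_iff_le_comap.mp h))
    rw [← h4, h5]
  tfae_finish

end Algebra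

end K23.RigClosed
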